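import Groth.Prelude.Def_GSzMilK
import Mathlib.LinearAlgebra.Multilinear.Curry
import Mathlib.GroupTheory.Perm.Sign
import Mathlib.Logic.Equiv.Basic

/-!
Milnor K-theory: multilinearity of symbols, antisymmetry, induction on symbols, left multiplication.
-/

universe u v w

namespace Groth.Agent.MilnorK

open MilK Function

variable {F : Type u} [Field F]

/-! ### Symbols as a multilinear map -/

/-- The symbol as a multilinear map on additively written units. -/
noncomputable def symbolML (F : Type u) [Field F] (n : ℕ) :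
    MultilinearMap ℤ (fun _ : Fin n => Additive Fˣ) (K F n) :=
  (mk F n).toIntLinearMap.compMultilinearMap (PiTensorProduct.tprod ℤ)

theorem symbolML_apply {n : ℕ} (x : Fin n → Fˣ) :
    symbolML F n (fun i => Additive.ofMul (x i)) = symbol x := rfl

theorem symbolML_eq {n : ℕ} (x : Fin n → Additive Fˣ) :
    symbolML F n x = symbol (fun i => (x i).toMul) := rfl

theorem ofMul_comp_update {n : ℕ} (x : Fin n → Fˣ) (i : Fin n) (a : Fˣ) :
    (fun j => Additive.ofMul (update x i a j)) = update (fun j => Additive.ofMul (x j)) i (Additive.ofMul a) :=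
  comp_update Additive.ofMul x i a

theorem symbol_update_mul {n : ℕ} (x : Fin n → Fˣ) (i : Fin n) (a b : Fˣ) :
    symbol (update x i (a * b)) = symbol (update x i a) + symbol (update x i b) := by
  rw [← symbolML_apply, ← symbolML_apply, ← symbolML_apply, ofMul_comp_update, ofMul_comp_update,
    ofMul_comp_update, ofMul_mul, MultilinearMap.map_update_add]

theorem symbol_update_one {n : ℕ} (x : Fin n → Fˣ) (i : Fin n) : symbol (update x i 1) = 0 := by
  have h := symbol_update_mul x i 1 1
  rwa [one_mul, left_eq_add] at h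

theorem symbol_eq_zero_of_eq_one {n : ℕ} (x : Fin n → Fˣ) (i : Fin n) (h : x i = 1) : symbol x = 0 := by
  rw [← update_eq_self i x, h, symbol_update_one]

theorem symbol_eq_zero_of_add {n : ℕ} (x : Fin n → Fˣ) {i j : Fin n} (hij : i ≠ j)
    (h : (x i : F) + (x j : F) = 1) : symbol x = 0 := by
  rcases lt_or_gt_of_ne hij with h' | h'
  · exact symbol_eq_zero_of_isSteinberg x ⟨i, j, h', h⟩
  · exact symbol_eq_zero_of_isSteinberg x ⟨j, i, h', by rwa [add_comm]⟩

/-! ### Generators -/

theorem induction_on {n : ℕ} {P : K F n → Prop} (z : K F n) (h0 : P 0)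
    (hadd : ∀ a b, P a → P b → P (a + b)) (hneg : ∀ a, P a → P (-a))
    (hsym : ∀ x : Fin n → Fˣ, P (symbol x)) : P z := by
  obtain ⟨t, rfl⟩ := mk_surjective F n z
  induction t using PiTensorProduct.induction_on with
  | smul_tprod r f =>
    rw [map_zsmul, mk_tprod]
    induction r using Int.induction_on with
    | zero => rw [zero_zsmul]; exact h0
    | succ i hi => rw [add_zsmul, one_zsmul]; exact hadd _ _ hi (hsym _)
    | pred i hi => rw [sub_zsmul, one_zsmul]; exact hadd _ _ hi (hneg _ (hsym _))
  | add a b ha hb => rw [map_add]; exact hadd _ _ ha hb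

theorem closure_range_symbol (n : ℕ) :
    AddSubgroup.closure (Set.range (symbol : (Fin n → Fˣ) → K F n)) = ⊤ := by
  rw [eq_top_iff]
  rintro z -
  induction z using induction_on with
  | h0 => exact zero_mem _
  | hadd a b ha hb => exact add_mem ha hb
  | hneg a ha => exact neg_mem ha
  | hsym x => exact AddSubgroup.subset_closure ⟨x, rfl⟩

theorem hom_ext {n : ℕ} {M : Type w} [AddCommGroup M] {f g : K F n →+ M}
    (h : ∀ x : Fin n → Fˣ, f (symbol x) = g (symbol x)) : f = g := by
  ext z
  induction z using induction_on with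
  | h0 => simp
  | hadd a b ha hb => simp [ha, hb]
  | hneg a ha => simp [ha]
  | hsym x => exact h x

theorem mem_of_forall_symbol {n : ℕ} {M : Type w} [AddCommGroup M] (f : K F n →+ M) (S : AddSubgroup M)
    (h : ∀ x : Fin n → Fˣ, f (symbol x) ∈ S) (z : K F n) : f z ∈ S := by
  induction z using induction_on with
  | h0 => simp
  | hadd a b ha hb => rw [map_add]; exact add_mem ha hb
  | hneg a ha => rw [map_neg]; exact neg_mem ha
  | hsym x => exact h x

/-! ### A bilinear Steinberg symbol is antisymmetric -/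

section Bilinear

variable {M : Type w} [AddCommGroup M] (g : Fˣ → Fˣ → M)
  (hl : ∀ a a' b, g (a * a') b = g a b + g a' b) (hr : ∀ a b b', g a (b * b') = g a b + g a b')
  (hst : ∀ a b : Fˣ, (a : F) + (b : F) = 1 → g a b = 0)

include hl hr hst

theorem bil_neg_self (a : Fˣ) : g a (-a) = 0 := by
  have hone : ∀ a b : Fˣ, g a 1 = 0 ∧ g 1 b = 0 := fun a b =>
    ⟨left_eq_add.mp (by rw [← hr, one_mul]), left_eq_add.mp (by rw [← hl, one_mul])⟩
  rcases eq_or_ne (a : F) 1 with ha | ha
  · rw [Units.val_eq_one.mp ha]; exact (hone 1 (-1)).2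
  · have ha' : (a⁻¹ : Fˣ) ≠ (1 : Fˣ) := by
      rw [ne_eq, inv_eq_one]; exact fun h => ha (Units.val_eq_one.mpr h)
    let b := Units.mk0 (1 - (a : F)) (sub_ne_zero.mpr fun h => ha h.symm)
    let b' := Units.mk0 (1 - ((a⁻¹ : Fˣ) : F))
      (sub_ne_zero.mpr fun h => ha' (Units.val_eq_one.mp h.symm))
    have hb : g a b = 0 := hst _ _ (by simp [b])
    have hb' : g a b' = 0 := by
      have h1 : g a⁻¹ b' = 0 := hst _ _ (by simp [b'])
      have h2 := hl a a⁻¹ b'
      rw [mul_inv_cancel, (hone a b').2, h1, add_zero] at h2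
      exact h2.symm
    have e : (-a) * b' = b := by
      apply Units.ext
      simp [b, b', mul_sub]
    have h3 := hr a (-a) b'
    rw [e, hb, hb', add_zero] at h3
    exact h3.symm

theorem bil_swap (a b : Fˣ) : g a b = -g b a := by
  have h := bil_neg_self g hl hr hst (a * b)
  have ea := bil_neg_self g hl hr hst a
  have eb := bil_neg_self g hl hr hst b
  rw [hl, show -(a * b) = -a * b from (neg_mul a b).symm] at h
  rw [hr a, ea, zero_add] at h
  rw [show -a * b = a * -b by rw [mul_neg, neg_mul], hr b, eb, add_zero] at h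
  exact eq_neg_of_add_eq_zero_left h

theorem bil_self (a : Fˣ) : g a a = g a (-1) := by
  have := hr a (-a) (-1)
  rwa [mul_neg_one, neg_neg, bil_neg_self g hl hr hst a, zero_add] at this

end Bilinear

/-- Two free positions of a symbol. -/
def pairTuple {n : ℕ} (x : Fin n → Fˣ) (i j : Fin n) (a b : Fˣ) : Fin n → Fˣ :=
  update (update x i a) j b

theorem pair_props {n : ℕ} (x : Fin n → Fˣ) {i j : Fin n} (hij : i ≠ j) :
    (∀ a a' b, symbol (pairTuple x i j (a * a') b) = symbol (pairTuple x i j a b) + symbol (pairTuple x i j a' b)) ∧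
    (∀ a b b', symbol (pairTuple x i j a (b * b')) = symbol (pairTuple x i j a b) + symbol (pairTuple x i j a b')) ∧
    (∀ a b : Fˣ, (a : F) + (b : F) = 1 → symbol (pairTuple x i j a b) = 0) := by
  refine ⟨fun a a' b => ?_, fun a b b' => symbol_update_mul _ _ _ _, fun a b h => symbol_eq_zero_of_add _ hij ?_⟩
  · simp only [pairTuple, update_comm hij]
    exact symbol_update_mul _ _ _ _
  · simpa [pairTuple, update_of_ne hij] using h

theorem symbol_neg_self {n : ℕ} (x : Fin n → Fˣ) {i j : Fin n} (hij : i ≠ j) (h : x j = -x i) :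
    symbol x = 0 := by
  obtain ⟨hl, hr, hst⟩ := pair_props x hij
  have := bil_neg_self (fun a b => symbol (pairTuple x i j a b)) hl hr hst (x i)
  rwa [← h, pairTuple, update_eq_self, update_eq_self] at this

theorem symbol_swap {n : ℕ} (x : Fin n → Fˣ) {i j : Fin n} (hij : i ≠ j) :
    symbol (x ∘ Equiv.swap i j) = -symbol x := by
  obtain ⟨hl, hr, hst⟩ := pair_props x hij
  have := bil_swap (fun a b => symbol (pairTuple x i j a b)) hl hr hst (x j) (x i)
  rw [Equiv.comp_swap_eq_update, update_comm hij.symm]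
  simpa [pairTuple, update_eq_self] using this

theorem symbol_self {n : ℕ} (x : Fin n → Fˣ) {i j : Fin n} (hij : i ≠ j) (h : x j = x i) :
    symbol x = symbol (update x j (-1)) := by
  obtain ⟨hl, hr, hst⟩ := pair_props x hij
  have := bil_self (fun a b => symbol (pairTuple x i j a b)) hl hr hst (x i)
  simp only [pairTuple] at this
  have e1 : update (update x i (x i)) j (x i) = x := by rw [update_eq_self, ← h, update_eq_self]
  rwa [e1, update_eq_self] at this

theorem symbol_perm {n : ℕ} (σ : Equiv.Perm (Fin n)) :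
    ∀ x : Fin n → Fˣ, symbol (x ∘ σ) = (Equiv.Perm.sign σ : ℤ) • symbol x := by
  induction σ using Equiv.Perm.swap_induction_on with
  | one => intro x; simp
  | swap_mul f i j hij ih =>
    intro x
    rw [Equiv.Perm.coe_mul, ← comp_assoc, ih, symbol_swap x hij, Equiv.Perm.sign_mul, Equiv.Perm.sign_swap hij]
    simp

/-! ### A multilinear map killing adjacent Steinberg tuples kills all of them -/

section Adjacent

variable {M : Type w} [AddCommGroup M] {n : ℕ} (f : MultilinearMap ℤ (fun _ : Fin n => Additive Fˣ) M)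
  (hf : ∀ (x : Fin n → Fˣ) (i j : Fin n), (j : ℕ) = i + 1 → (x i : F) + (x j : F) = 1 →
    f (fun k => Additive.ofMul (x k)) = 0)

include hf

theorem adj_swap (x : Fin n → Fˣ) (i j : Fin n) (hij : (j : ℕ) = i + 1) :
    f (fun k => Additive.ofMul ((x ∘ Equiv.swap i j) k)) = -f (fun k => Additive.ofMul (x k)) := by
  have hne : i ≠ j := fun h => by rw [h] at hij; omega
  let g : Fˣ → Fˣ → M := fun a b => f (fun k => Additive.ofMul (pairTuple x i j a b k))
  have hl : ∀ a a' b, g (a * a') b = g a b + g a' b := fun a a' b => by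
    simp only [g, pairTuple, update_comm hne, ofMul_comp_update, ofMul_mul, MultilinearMap.map_update_add]
  have hr : ∀ a b b', g a (b * b') = g a b + g a b' := fun a b b' => by
    simp only [g, pairTuple, ofMul_comp_update, ofMul_mul, MultilinearMap.map_update_add]
  have hst : ∀ a b : Fˣ, (a : F) + (b : F) = 1 → g a b = 0 := fun a b h =>
    hf _ i j hij (by simpa [pairTuple, update_of_ne hne] using h)
  have h := bil_swap g hl hr hst (x j) (x i)
  rw [Equiv.comp_swap_eq_update, update_comm hne.symm]
  simpa [g, pairTuple, update_eq_self] using h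

theorem vanishes_of_adjacent (x : Fin n → Fˣ) (hx : IsSteinberg F x) :
    f (fun k => Additive.ofMul (x k)) = 0 := by
  obtain ⟨i, j, hij, h⟩ := hx
  suffices ∀ (d : ℕ) (x : Fin n → Fˣ) (i j : Fin n), (j : ℕ) = i + d + 1 → (x i : F) + (x j : F) = 1 →
      f (fun k => Additive.ofMul (x k)) = 0 from this ((j : ℕ) - i - 1) x i j (by rw [Fin.lt_def] at hij; omega) h
  intro d
  induction d with
  | zero => intro x i j hij h; exact hf x i j hij h
  | succ d ih =>
    intro x i j hij h
    let j' : Fin n := ⟨(j : ℕ) - 1, by omega⟩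
    have hj' : (j : ℕ) = j' + 1 := by simp [j']; omega
    have h0 := ih (x ∘ Equiv.swap j' j) i j' (by simp [j']; omega) (by
      rw [comp_apply, comp_apply, Equiv.swap_apply_left, Equiv.swap_apply_of_ne_of_ne]
      · exact h
      · intro he; have := congrArg Fin.val he; simp [j'] at this; omega
      · intro he; have := congrArg Fin.val he; omega)
    rw [adj_swap f hf x j' j hj', neg_eq_zero] at h0
    exact h0

/-- `MilK.lift` from adjacent Steinberg relations only. -/
noncomputable def liftAdj : K F n →+ M :=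
  MilK.lift f (vanishes_of_adjacent f hf)

theorem liftAdj_symbol (x : Fin n → Fˣ) : liftAdj f hf (symbol x) = f (fun k => Additive.ofMul (x k)) :=
  MilK.lift_symbol _ _ _

end Adjacent

/-! ### Left multiplication by a unit -/

/-- `{a} · -`, as a map additive in `a`. -/
noncomputable def consHom (F : Type u) [Field F] (n : ℕ) : Additive Fˣ →+ (K F n →+ K F (n + 1)) :=
  AddMonoidHom.mk'
    (fun a => MilK.lift ((symbolML F (n + 1)).curryLeft a) (fun x hx => by
      obtain ⟨i, j, hij, h⟩ := hx
      rw [MultilinearMap.curryLeft_apply, symbolML_eq]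
      refine symbol_eq_zero_of_isSteinberg _ ⟨i.succ, j.succ, Fin.succ_lt_succ_iff.mpr hij, ?_⟩
      simpa using h))
    (fun a b => hom_ext fun x => by
      simp only [AddMonoidHom.add_apply, MilK.lift_symbol, map_add, MultilinearMap.add_apply])

@[simp]
theorem consHom_symbol {n : ℕ} (a : Fˣ) (x : Fin n → Fˣ) :
    consHom F n (Additive.ofMul a) (symbol x) = symbol (Fin.cons a x) := by
  simp only [consHom, AddMonoidHom.mk'_apply, MilK.lift_symbol, MultilinearMap.curryLeft_apply]
  rw [symbolML_eq]
  rfl

/-- `{a} · z`. -/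
noncomputable def cons {n : ℕ} (a : Fˣ) (z : K F n) : K F (n + 1) := consHom F n (Additive.ofMul a) z

theorem cons_symbol {n : ℕ} (a : Fˣ) (x : Fin n → Fˣ) : cons a (symbol x) = symbol (Fin.cons a x) :=
  consHom_symbol a x

theorem cons_mul {n : ℕ} (a b : Fˣ) (z : K F n) : cons (a * b) z = cons a z + cons b z := by
  simp [cons, ofMul_mul]

theorem cons_one {n : ℕ} (z : K F n) : cons 1 z = 0 := by simp [cons]

theorem cons_inv {n : ℕ} (a : Fˣ) (z : K F n) : cons a⁻¹ z = -cons a z := by simp [cons, ofMul_inv]

theorem cons_zpow {n : ℕ} (a : Fˣ) (i : ℤ) (z : K F n) : cons (a ^ i) z = i • cons a z := by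
  simp [cons, ofMul_zpow]

theorem cons_add {n : ℕ} (a : Fˣ) (z z' : K F n) : cons a (z + z') = cons a z + cons a z' := map_add _ _ _

theorem cons_zero {n : ℕ} (a : Fˣ) : cons a (0 : K F n) = 0 := map_zero _

theorem cons_neg {n : ℕ} (a : Fˣ) (z : K F n) : cons a (-z) = -cons a z := map_neg _ _

theorem cons_zsmul {n : ℕ} (a : Fˣ) (i : ℤ) (z : K F n) : cons a (i • z) = i • cons a z := map_zsmul _ _ _

theorem cons_nsmul {n : ℕ} (a : Fˣ) (i : ℕ) (z : K F n) : cons a (i • z) = i • cons a z := map_nsmul _ _ _

theorem cons_cons_of_add {n : ℕ} (a b : Fˣ) (h : (a : F) + (b : F) = 1) (z : K F n) :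
    cons a (cons b z) = 0 := by
  induction z using induction_on with
  | h0 => simp [cons_zero]
  | hadd x y hx hy => simp [cons_add, hx, hy]
  | hneg x hx => simp [cons_neg, hx]
  | hsym x =>
    rw [cons_symbol, cons_symbol]
    exact symbol_eq_zero_of_add _ (i := 0) (j := Fin.succ 0) (Fin.succ_ne_zero 0).symm (by simpa using h)

theorem cons_cons_neg_self {n : ℕ} (a : Fˣ) (z : K F n) : cons a (cons (-a) z) = 0 :=
  bil_neg_self (fun a b => cons a (cons b z)) (fun a a' b => cons_mul a a' _)
    (fun a b b' => by rw [cons_mul, cons_add]) (fun a b h => cons_cons_of_add a b h z) a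

theorem cons_cons_swap {n : ℕ} (a b : Fˣ) (z : K F n) : cons a (cons b z) = -cons b (cons a z) :=
  bil_swap (fun a b => cons a (cons b z)) (fun a a' b => cons_mul a a' _)
    (fun a b b' => by rw [cons_mul, cons_add]) (fun a b h => cons_cons_of_add a b h z) a b

theorem cons_cons_self {n : ℕ} (a : Fˣ) (z : K F n) : cons a (cons a z) = cons a (cons (-1) z) :=
  bil_self (fun a b => cons a (cons b z)) (fun a a' b => cons_mul a a' _)
    (fun a b b' => by rw [cons_mul, cons_add]) (fun a b h => cons_cons_of_add a b h z) a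

theorem symbol_eq_cons {n : ℕ} (x : Fin (n + 1) → Fˣ) : symbol x = cons (x 0) (symbol (Fin.tail x)) := by
  rw [cons_symbol, Fin.cons_self_tail]

theorem map_cons {E : Type v} [Field E] (φ : F →+* E) {n : ℕ} (a : Fˣ) (z : K F n) :
    MilK.map φ (n + 1) (cons a z) = cons (Units.map (φ : F →* E) a) (MilK.map φ n z) := by
  induction z using induction_on with
  | h0 => simp [cons_zero]
  | hadd x y hx hy => simp [cons_add, hx, hy]
  | hneg x hx => simp [cons_neg, hx]
  | hsym x =>
    rw [cons_symbol, map_symbol, map_symbol, cons_symbol]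
    congr 1
    funext i
    exact Fin.cases (by simp) (fun i => by simp) i

theorem cast_mul_one_eq_cons {n : ℕ} (a : Fˣ) (z : K F n) :
    MilK.cast F (Nat.add_comm 1 n) (MilK.mul F 1 n (symbol ![a]) z) = cons a z := by
  induction z using induction_on with
  | h0 => simp [cons_zero]
  | hadd x y hx hy => simp [cons_add, hx, hy]
  | hneg x hx => simp [cons_neg, hx]
  | hsym x =>
    rw [mul_symbol_symbol, cast_symbol, cons_symbol]
    congr 1
    funext i
    refine Fin.cases ?_ (fun j => ?_) i
    · show Fin.append ![a] x (Fin.cast _ 0) = a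
      rw [show Fin.cast (Nat.add_comm 1 n).symm (0 : Fin (n + 1)) = Fin.castAdd n (0 : Fin 1) from Fin.ext rfl,
        Fin.append_left]
      rfl
    · show Fin.append ![a] x (Fin.cast _ j.succ) = (Fin.cons a x : Fin (n + 1) → Fˣ) j.succ
      rw [show Fin.cast (Nat.add_comm 1 n).symm j.succ = Fin.natAdd 1 j from Fin.ext (by simp; omega),
        Fin.append_right, Fin.cons_succ]

end Groth.Agent.MilnorK
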