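import Groth.Agent.Lib.MilnorK.Basic
import Mathlib.RingTheory.DiscreteValuationRing.TFAE

/-!
Residue (tame symbol) and specialization maps on Milnor K-theory of a discretely valued field:
existence, uniqueness, surjectivity and kernels.
-/

universe u v w

namespace Groth.Agent.MilnorK

open MilK Function IsLocalRing

variable {A : Type u} [CommRing A] [IsDomain A] [IsDiscreteValuationRing A]
variable {L : Type v} [Field L] [Algebra A L] [IsFractionRing A L]
variable {ϖ : A} (hϖ : Irreducible ϖ)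

/-! ### The decomposition `x = ϖ ^ v x * u` -/

variable (L) in
/-- The uniformizer as a unit of `L`. -/
noncomputable def pi : Lˣ := MilK.unitFrac A L ϖ hϖ.ne_zero

theorem coe_unitToFrac (u : Aˣ) : (MilK.unitToFrac A L u : L) = algebraMap A L u := rfl

theorem coe_unitResidue (u : Aˣ) : (MilK.unitResidue A u : ResidueField A) = residue A (u : A) := rfl

variable (L) in
/-- `(i, u) ↦ ϖ ^ i * u`. -/
noncomputable def ofPair : Multiplicative ℤ × Aˣ →* Lˣ :=
  (zpowersHom Lˣ (pi L hϖ)).coprod (MilK.unitToFrac A L)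

theorem ofPair_apply (i : ℤ) (u : Aˣ) :
    ofPair L hϖ (Multiplicative.ofAdd i, u) = pi L hϖ ^ i * MilK.unitToFrac A L u := by
  simp [ofPair, MonoidHom.coprod_apply]

theorem ofPair_bijective : Bijective (ofPair L hϖ) := by
  constructor
  · rw [injective_iff_map_eq_one]
    rintro ⟨i, u⟩ h
    obtain ⟨i, rfl⟩ := Multiplicative.ofAdd.surjective i
    rw [ofPair_apply] at h
    have key : ∀ (k : ℕ) (w : Aˣ), pi L hϖ ^ (k : ℤ) = MilK.unitToFrac A L w → k = 0 := by
      intro k w hk
      by_contra hne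
      have e : algebraMap A L (ϖ ^ k) = algebraMap A L w := by
        have := congrArg (fun x : Lˣ => (x : L)) hk
        simpa [pi, coe_unitToFrac] using this
      exact hϖ.not_isUnit ((isUnit_pow_iff hne).mp (IsFractionRing.injective A L e ▸ w.isUnit))
    have hi : i = 0 := by
      obtain ⟨k, rfl | rfl⟩ := Int.eq_nat_or_neg i
      · rw [key k u⁻¹ (by rw [map_inv]; exact eq_inv_of_mul_eq_one_left h), Nat.cast_zero]
      · rw [key k u (by rw [zpow_neg] at h; exact inv_mul_eq_one.mp h), Nat.cast_zero, neg_zero]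
    subst hi
    rw [zpow_zero, one_mul] at h
    have hu : u = 1 := Units.ext (IsFractionRing.injective A L (by simpa [coe_unitToFrac] using congrArg (fun x : Lˣ => (x : L)) h))
    subst hu
    rfl
  · intro x
    obtain ⟨a, b, hb, hab⟩ := IsFractionRing.div_surjective (A := A) (x : L)
    have hb0 : b ≠ 0 := nonZeroDivisors.ne_zero hb
    have ha0 : a ≠ 0 := by
      rintro rfl
      simp at hab
      exact x.ne_zero hab.symm
    obtain ⟨i, u, rfl⟩ := IsDiscreteValuationRing.eq_unit_mul_pow_irreducible ha0 hϖ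
    obtain ⟨j, w, rfl⟩ := IsDiscreteValuationRing.eq_unit_mul_pow_irreducible hb0 hϖ
    refine ⟨(Multiplicative.ofAdd ((i : ℤ) - j), u / w), Units.ext ?_⟩
    rw [ofPair_apply, ← hab, zpow_sub, map_div]
    simp only [Units.val_mul, zpow_natCast, Units.val_inv_eq_inv_val, Units.val_pow_eq_pow_val,
      Units.val_div_eq_div_val, pi, coe_unitFrac, coe_unitToFrac, map_mul, map_pow]
    rw [mul_comm (algebraMap A L u), mul_comm (algebraMap A L w), mul_div_mul_comm,
      div_eq_mul_inv (algebraMap A L ϖ ^ i)]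

variable (L) in
/-- The decomposition as an equivalence. -/
noncomputable def pairEquiv : Multiplicative ℤ × Aˣ ≃* Lˣ :=
  MulEquiv.ofBijective (ofPair L hϖ) (ofPair_bijective hϖ)

/-- The valuation. -/
noncomputable def v (x : Lˣ) : ℤ := ((pairEquiv L hϖ).symm x).1.toAdd

variable (L) in
/-- The residue class of the unit part. -/
noncomputable def r : Lˣ →* (ResidueField A)ˣ :=
  (MilK.unitResidue A).comp ((MonoidHom.snd _ _).comp (pairEquiv L hϖ).symm.toMonoidHom)

theorem exists_decomp (x : Lˣ) : ∃ u : Aˣ, x = pi L hϖ ^ v hϖ x * MilK.unitToFrac A L u ∧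
    r L hϖ x = MilK.unitResidue A u :=
  ⟨((pairEquiv L hϖ).symm x).2, by
    rw [← ofPair_apply]
    exact ((pairEquiv L hϖ).apply_symm_apply x).symm, rfl⟩

theorem pairEquiv_symm_eq (i : ℤ) (u : Aˣ) :
    (pairEquiv L hϖ).symm (pi L hϖ ^ i * MilK.unitToFrac A L u) = (Multiplicative.ofAdd i, u) := by
  rw [MulEquiv.symm_apply_eq, ← ofPair_apply]
  rfl

@[simp] theorem v_decomp (i : ℤ) (u : Aˣ) : v hϖ (pi L hϖ ^ i * MilK.unitToFrac A L u) = i := by
  rw [v, pairEquiv_symm_eq]; rfl

@[simp] theorem r_decomp (i : ℤ) (u : Aˣ) :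
    r L hϖ (pi L hϖ ^ i * MilK.unitToFrac A L u) = MilK.unitResidue A u := by
  simp only [r, MonoidHom.comp_apply, MulEquiv.coe_toMonoidHom, pairEquiv_symm_eq, MonoidHom.coe_snd]

theorem v_mul (x y : Lˣ) : v hϖ (x * y) = v hϖ x + v hϖ y := by simp [v]

variable (L) in
/-- The valuation as an additive map. -/
noncomputable def vHom : Additive Lˣ →+ ℤ :=
  AddMonoidHom.mk' (fun x => v hϖ x.toMul) fun x y => v_mul hϖ x.toMul y.toMul

@[simp] theorem vHom_apply (x : Lˣ) : vHom L hϖ (Additive.ofMul x) = v hϖ x := rfl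

theorem v_one : v hϖ (1 : Lˣ) = 0 := by
  have := v_mul hϖ (1 : Lˣ) 1; rw [mul_one] at this; omega

theorem v_inv (x : Lˣ) : v hϖ x⁻¹ = -v hϖ x := by
  have := v_mul hϖ x x⁻¹; rw [mul_inv_cancel, v_one] at this; omega

@[simp] theorem v_unit (u : Aˣ) : v hϖ (MilK.unitToFrac A L u) = 0 := by
  simpa using v_decomp (L := L) hϖ 0 u

@[simp] theorem r_unit (u : Aˣ) : r L hϖ (MilK.unitToFrac A L u) = MilK.unitResidue A u := by
  simpa using r_decomp (L := L) hϖ 0 u

@[simp] theorem v_pi : v hϖ (pi L hϖ) = 1 := by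
  simpa using v_decomp (L := L) hϖ 1 1

@[simp] theorem r_pi : r L hϖ (pi L hϖ) = 1 := by
  simpa using r_decomp (L := L) hϖ 1 1

theorem unitResidue_neg_one : MilK.unitResidue A (-1) = -1 := by
  ext; simp [coe_unitResidue]

theorem unitToFrac_neg_one : MilK.unitToFrac A L (-1) = -1 := by
  ext; simp [coe_unitToFrac]

@[simp] theorem r_neg (x : Lˣ) : r L hϖ (-x) = -r L hϖ x := by
  rw [← neg_one_mul, map_mul, ← unitToFrac_neg_one (A := A), r_unit, unitResidue_neg_one, neg_one_mul]

@[simp] theorem v_neg (x : Lˣ) : v hϖ (-x) = v hϖ x := by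
  rw [← neg_one_mul, v_mul, ← unitToFrac_neg_one (A := A), v_unit, zero_add]

theorem exists_unit_of_v_eq_zero {x : Lˣ} (h : v hϖ x = 0) :
    ∃ u : Aˣ, x = MilK.unitToFrac A L u := by
  obtain ⟨u, hu, -⟩ := exists_decomp hϖ x
  exact ⟨u, by rw [hu, h, zpow_zero, one_mul]⟩

theorem v_nonneg_of_mem (x : Lˣ) (a : A) (h : (x : L) = algebraMap A L a) : 0 ≤ v hϖ x := by
  have ha : a ≠ 0 := by rintro rfl; exact x.ne_zero (by rw [h, map_zero])
  obtain ⟨i, u, rfl⟩ := IsDiscreteValuationRing.eq_unit_mul_pow_irreducible ha hϖ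
  have : x = pi L hϖ ^ (i : ℤ) * MilK.unitToFrac A L u := by
    ext; simp [h, pi, coe_unitToFrac, mul_comm]
  rw [this, v_decomp]; omega

theorem exists_mem_maximalIdeal_of_v_pos {x : Lˣ} (h : 0 < v hϖ x) :
    ∃ a ∈ maximalIdeal A, (x : L) = algebraMap A L a := by
  obtain ⟨u, hu, -⟩ := exists_decomp hϖ x
  obtain ⟨k, hk⟩ : ∃ k : ℕ, v hϖ x = (k : ℤ) + 1 := ⟨(v hϖ x - 1).toNat, by omega⟩
  refine ⟨ϖ ^ (k + 1) * (u : A), Ideal.mul_mem_right _ _ ?_, ?_⟩
  · rw [pow_succ]
    exact Ideal.mul_mem_left _ _ hϖ.not_isUnit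
  · rw [hk, show (k : ℤ) + 1 = ((k + 1 : ℕ) : ℤ) by simp, zpow_natCast] at hu
    conv_lhs => rw [hu]
    simp [pi, coe_unitToFrac]

theorem one_sub_of_v_pos {x y : Lˣ} (h : 0 < v hϖ x) (hy : (y : L) = 1 - (x : L)) :
    v hϖ y = 0 ∧ r L hϖ y = 1 := by
  obtain ⟨a, ha, hxa⟩ := exists_mem_maximalIdeal_of_v_pos hϖ h
  have hu : IsUnit (1 - a) := IsLocalRing.isUnit_one_sub_self_of_mem_nonunits _ ha
  have e : y = MilK.unitToFrac A L hu.unit := by
    ext; simp [coe_unitToFrac, hy, hxa]
  refine ⟨by rw [e, v_unit], ?_⟩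
  rw [e, r_unit]
  ext
  simp [coe_unitResidue, (residue_eq_zero_iff a).mpr ha]

/-- The three possibilities for a Steinberg pair. -/
theorem steinberg_cases (a b : Lˣ) (h : (a : L) + (b : L) = 1) :
    (0 < v hϖ a ∧ v hϖ b = 0 ∧ r L hϖ b = 1) ∨
    (v hϖ a < 0 ∧ v hϖ b = v hϖ a ∧ r L hϖ b = -r L hϖ a) ∨
    (v hϖ a = 0 ∧ 0 < v hϖ b ∧ r L hϖ a = 1) ∨
    (v hϖ a = 0 ∧ v hϖ b = 0 ∧ (r L hϖ a : ResidueField A) + r L hϖ b = 1) := by
  rcases lt_trichotomy 0 (v hϖ a) with ha | ha | ha
  · exact .inl ⟨ha, one_sub_of_v_pos hϖ ha (eq_sub_of_add_eq' h)⟩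
  · obtain ⟨u, rfl⟩ := exists_unit_of_v_eq_zero hϖ ha.symm
    have hb : (b : L) = algebraMap A L (1 - (u : A)) := by
      rw [eq_sub_of_add_eq' h, map_sub, map_one, coe_unitToFrac]
    rcases (v_nonneg_of_mem hϖ b _ hb).lt_or_eq with hb' | hb'
    · exact .inr <| .inr <| .inl
        ⟨ha.symm, hb', (one_sub_of_v_pos hϖ hb' (eq_sub_of_add_eq h)).2⟩
    · refine .inr <| .inr <| .inr ⟨ha.symm, hb'.symm, ?_⟩
      obtain ⟨w, rfl⟩ := exists_unit_of_v_eq_zero hϖ hb'.symm
      rw [r_unit, r_unit, coe_unitResidue, coe_unitResidue, IsFractionRing.injective A L hb, map_sub,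
        map_one, add_sub_cancel]
  · right; left
    have hb : (b : L) = 1 - (a : L) := eq_sub_of_add_eq' h
    let c : Lˣ := b * (-a)⁻¹
    have hc : (c : L) = 1 - ((a⁻¹ : Lˣ) : L) := by
      simp [c, hb]
      field_simp
      ring
    obtain ⟨hv, hr⟩ := one_sub_of_v_pos hϖ (x := a⁻¹) (y := c) (by rw [v_inv]; omega) hc
    have e : b = c * (-a) := by simp [c]
    refine ⟨ha, ?_, ?_⟩
    · rw [e, v_mul, hv, v_neg, zero_add]
    · rw [e, map_mul, hr, r_neg, one_mul]

/-! ### The specialization map -/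

variable (L) in
/-- The specialization map attached to `ϖ`. -/
noncomputable def S (n : ℕ) : K L n →+ K (ResidueField A) n :=
  MilK.lift ((symbolML (ResidueField A) n).compLinearMap
      fun _ => (MonoidHom.toAdditive (r L hϖ)).toIntLinearMap)
    fun x ⟨i, j, hij, h⟩ => by
      show symbol (fun k => r L hϖ (x k)) = 0
      rcases steinberg_cases hϖ (x i) (x j) h with ⟨-, -, h1⟩ | ⟨-, -, h1⟩ | ⟨-, -, h1⟩ | ⟨-, -, h1⟩
      · exact symbol_eq_zero_of_eq_one _ j h1
      · exact symbol_neg_self (fun k => r L hϖ (x k)) hij.ne h1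
      · exact symbol_eq_zero_of_eq_one _ i h1
      · exact symbol_eq_zero_of_add _ hij.ne h1

@[simp] theorem S_symbol {n : ℕ} (x : Fin n → Lˣ) :
    S L hϖ n (symbol x) = symbol fun i => r L hϖ (x i) :=
  MilK.lift_symbol _ _ _

theorem S_cons {n : ℕ} (a : Lˣ) (z : K L n) :
    S L hϖ (n + 1) (cons a z) = cons (r L hϖ a) (S L hϖ n z) := by
  induction z using induction_on with
  | h0 => simp [cons_zero]
  | hadd x y hx hy => simp [cons_add, hx, hy]
  | hneg x hx => simp [cons_neg, hx]
  | hsym x =>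
    rw [cons_symbol, S_symbol, S_symbol, cons_symbol]
    congr 1
    funext i
    exact Fin.cases (by simp) (fun i => by simp) i

theorem isSpecMap_S (n : ℕ) : MilK.IsSpecMap A L ϖ hϖ n (S L hϖ n) := by
  intro e u
  rw [S_symbol]
  exact congrArg symbol (funext fun i => r_decomp hϖ (e i) (u i))

theorem specMap_eq {n : ℕ} {s : K L n →+ K (ResidueField A) n} (hs : MilK.IsSpecMap A L ϖ hϖ n s) :
    s = S L hϖ n := by
  refine hom_ext fun x => ?_
  choose u hu hr using fun i => exists_decomp hϖ (x i)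
  rw [S_symbol, funext hr]
  conv_lhs => rw [funext hu]
  exact hs (fun i => v hϖ (x i)) u

/-! ### The residue map -/

/-- `c a = (-1) ^ v a * r a⁻¹`. -/
noncomputable def c (a : Lˣ) : (ResidueField A)ˣ := (-1) ^ v hϖ a * (r L hϖ a)⁻¹

theorem c_mul (a b : Lˣ) : c hϖ (a * b) = c hϖ a * c hϖ b := by
  simp only [c, v_mul, map_mul, zpow_add, mul_inv]
  exact mul_mul_mul_comm _ _ _ _

/-- The linear-in-`a` map `a ↦ ({c a} · d -) + v a • S`. -/
noncomputable def next (n : ℕ) (d : K L (n + 1) →+ K (ResidueField A) n) :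
    Additive Lˣ →+ (K L (n + 1) →+ K (ResidueField A) (n + 1)) :=
  AddMonoidHom.mk'
    (fun a => (consHom (ResidueField A) n (Additive.ofMul (c hϖ a.toMul))).comp d +
      v hϖ a.toMul • S L hϖ (n + 1))
    (fun a b => by
      simp only [toMul_add, c_mul, v_mul, ofMul_mul, map_add, add_zsmul]
      ext z
      simp only [AddMonoidHom.add_apply, AddMonoidHom.comp_apply]
      abel)

theorem next_apply (n : ℕ) (d : K L (n + 1) →+ K (ResidueField A) n) (a : Lˣ) (z : K L (n + 1)) :
    next hϖ n d (Additive.ofMul a) z = cons (c hϖ a) (d z) + v hϖ a • S L hϖ (n + 1) z := rfl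

/-- The multilinear map defining the residue map in the next degree. -/
noncomputable def nextML (n : ℕ) (d : K L (n + 1) →+ K (ResidueField A) n) :
    MultilinearMap ℤ (fun _ : Fin (n + 2) => Additive Lˣ) (K (ResidueField A) (n + 1)) :=
  LinearMap.uncurryLeft
    (AddMonoidHom.toIntLinearMap <| AddMonoidHom.mk'
      (fun a => (next hϖ n d a).toIntLinearMap.compMultilinearMap (symbolML L (n + 1)))
      (fun a b => by
        ext x
        simp only [map_add, LinearMap.compMultilinearMap_apply, AddMonoidHom.coe_toIntLinearMap,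
          AddMonoidHom.add_apply, add_apply]))

theorem nextML_apply (n : ℕ) (d : K L (n + 1) →+ K (ResidueField A) n) (x : Fin (n + 2) → Lˣ) :
    nextML hϖ n d (fun i => Additive.ofMul (x i)) =
      next hϖ n d (Additive.ofMul (x 0)) (symbol (Fin.tail x)) := rfl

theorem steinberg_key (a b : Lˣ) (h : (a : L) + (b : L) = 1) :
    (∀ {n : ℕ} (z : K (ResidueField A) n), cons (c hϖ a) (cons (c hϖ b) z) = 0) ∧
      c hϖ a ^ v hϖ b * r L hϖ b ^ v hϖ a = 1 := by
  rcases steinberg_cases hϖ a b h with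
    ⟨-, h2, h3⟩ | ⟨-, h2, h3⟩ | ⟨h1, -, h3⟩ | ⟨h1, h2, h3⟩
  · refine ⟨fun z => ?_, by simp [h2, h3]⟩
    rw [show c hϖ b = 1 by simp [c, h2, h3], cons_one, cons_zero]
  · have e : c hϖ b = -c hϖ a := by simp [c, h2, h3, inv_neg]
    refine ⟨fun z => by rw [e, cons_cons_neg_self], ?_⟩
    rw [h2, h3, ← mul_zpow, c, mul_neg, inv_mul_cancel_right]
    rcases Int.even_or_odd (v hϖ a) with he | ho
    · simp [he.neg_one_zpow]
    · simp [ho.neg_one_zpow]
  · refine ⟨fun z => ?_, by simp [c, h1, h3]⟩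
    rw [show c hϖ a = 1 by simp [c, h1, h3], cons_one]
  · refine ⟨fun z => ?_, by simp [h1, h2]⟩
    rw [show c hϖ a = (r L hϖ a)⁻¹ by simp [c, h1], show c hϖ b = (r L hϖ b)⁻¹ by simp [c, h2],
      cons_inv, cons_inv, cons_neg, neg_neg]
    exact cons_cons_of_add _ _ h3 z

/-- The invariant needed to continue the recursion. -/
def Step (n : ℕ) (d : K L (n + 1) →+ K (ResidueField A) n) : Prop :=
  ∀ a b : Lˣ, (a : L) + (b : L) = 1 → ∀ y : K L n,
    next hϖ n d (Additive.ofMul a) (cons b y) = 0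

theorem nextML_adjacent (n : ℕ) (d : K L (n + 1) →+ K (ResidueField A) n) (hd : Step hϖ n d)
    (x : Fin (n + 2) → Lˣ) (i j : Fin (n + 2)) (hij : (j : ℕ) = i + 1)
    (h : (x i : L) + (x j : L) = 1) : nextML hϖ n d (fun k => Additive.ofMul (x k)) = 0 := by
  rw [nextML_apply]
  rcases Fin.eq_zero_or_eq_succ i with rfl | ⟨i, rfl⟩
  · have : j = 1 := Fin.ext (by simpa using hij)
    subst this
    rw [symbol_eq_cons (Fin.tail x)]
    exact hd _ _ (by simpa [Fin.tail] using h) _
  · rcases Fin.eq_zero_or_eq_succ j with rfl | ⟨j, rfl⟩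
    · simp at hij
    · have hne : i ≠ j := by rintro rfl; omega
      rw [symbol_eq_zero_of_add (Fin.tail x) hne h, map_zero]

variable (L) in
/-- The residue map in degree one. -/
noncomputable def D₀ : K L 1 →+ K (ResidueField A) 0 :=
  MilK.lift ((zmultiplesHom _ (symbol (![] : Fin 0 → (ResidueField A)ˣ))).comp (vHom L hϖ) |>.toIntLinearMap
      |>.compMultilinearMap (MultilinearMap.ofSubsingleton ℤ _ _ (0 : Fin 1) LinearMap.id))
    fun x ⟨i, j, hij, _⟩ => absurd (Subsingleton.elim i j) hij.ne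

theorem D₀_cons (a : Lˣ) (z : K L 0) : D₀ L hϖ (cons a z) = v hϖ a • S L hϖ 0 z := by
  induction z using induction_on with
  | h0 => simp [cons_zero]
  | hadd x y hx hy => simp [cons_add, hx, hy, zsmul_add]
  | hneg x hx => simp [cons_neg, hx]
  | hsym x =>
    rw [cons_symbol, D₀, MilK.lift_symbol, S_symbol]
    show v hϖ ((Fin.cons a x : Fin 1 → Lˣ) 0) • symbol (![] : Fin 0 → (ResidueField A)ˣ) = _
    rw [Fin.cons_zero]
    congr 2
    exact funext fun i => i.elim0

theorem step_zero : Step hϖ 0 (D₀ L hϖ) := by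
  intro a b h y
  rw [next_apply, D₀_cons, S_cons, cons_zsmul, ← cons_zpow, ← cons_zpow, ← cons_mul,
    (steinberg_key hϖ a b h).2, cons_one]

theorem step_succ (n : ℕ) (d : K L (n + 1) →+ K (ResidueField A) n) (d' : K L (n + 2) →+ K (ResidueField A) (n + 1))
    (hd' : ∀ (a : Lˣ) (z : K L (n + 1)), d' (cons a z) = next hϖ n d (Additive.ofMul a) z) :
    Step hϖ (n + 1) d' := by
  intro a b h y
  rw [next_apply, hd', next_apply, S_cons, cons_add, (steinberg_key hϖ a b h).1, zero_add, cons_zsmul,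
    ← cons_zpow, ← cons_zpow, ← cons_mul, (steinberg_key hϖ a b h).2, cons_one]

theorem liftAdj_nextML_cons (n : ℕ) (d : K L (n + 1) →+ K (ResidueField A) n) (hd : Step hϖ n d)
    (a : Lˣ) (z : K L (n + 1)) :
    liftAdj (nextML hϖ n d) (nextML_adjacent hϖ n d hd) (cons a z) = next hϖ n d (Additive.ofMul a) z := by
  induction z using induction_on with
  | h0 => simp [cons_zero]
  | hadd x y hx hy => simp [cons_add, hx, hy]
  | hneg x hx => simp [cons_neg, hx]
  | hsym x => rw [cons_symbol, liftAdj_symbol, nextML_apply, Fin.cons_zero, Fin.tail_cons]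

variable (L) in
/-- The residue maps together with the recursion invariant. -/
noncomputable def DStep : ∀ n : ℕ, {d : K L (n + 1) →+ K (ResidueField A) n // Step hϖ n d}
  | 0 => ⟨D₀ L hϖ, step_zero hϖ⟩
  | n + 1 => ⟨liftAdj (nextML hϖ n (DStep n).1) (nextML_adjacent hϖ n _ (DStep n).2),
      step_succ hϖ n (DStep n).1 _ (liftAdj_nextML_cons hϖ n (DStep n).1 (DStep n).2)⟩

variable (L) in
/-- The residue map (tame symbol), built with the help of `ϖ`. -/
noncomputable def D (n : ℕ) : K L (n + 1) →+ K (ResidueField A) n := (DStep L hϖ n).1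

theorem D_zero_cons (a : Lˣ) (z : K L 0) : D L hϖ 0 (cons a z) = v hϖ a • S L hϖ 0 z :=
  D₀_cons hϖ a z

theorem D_succ_cons (n : ℕ) (a : Lˣ) (z : K L (n + 1)) :
    D L hϖ (n + 1) (cons a z) = cons (c hϖ a) (D L hϖ n z) + v hϖ a • S L hϖ (n + 1) z :=
  liftAdj_nextML_cons hϖ n (DStep L hϖ n).1 (DStep L hϖ n).2 a z

/-! ### Units and generation -/

variable (A L) in
/-- The subgroup generated by symbols of units. -/
def U (n : ℕ) : AddSubgroup (K L n) :=
  AddSubgroup.closure {z | ∃ u : Fin n → Aˣ, z = symbol fun i => MilK.unitToFrac A L (u i)}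

theorem symbol_mem_U {n : ℕ} (u : Fin n → Aˣ) : symbol (fun i => MilK.unitToFrac A L (u i)) ∈ U A L n :=
  AddSubgroup.subset_closure ⟨u, rfl⟩

theorem U_zero : U A L 0 = ⊤ := by
  rw [eq_top_iff, ← closure_range_symbol, AddSubgroup.closure_le]
  rintro _ ⟨x, rfl⟩
  rw [Subsingleton.elim x fun i => MilK.unitToFrac A L ((![] : Fin 0 → Aˣ) i)]
  exact symbol_mem_U _

theorem cons_unit_mem_U {n : ℕ} (u : Aˣ) {z : K L n} (hz : z ∈ U A L n) :
    cons (MilK.unitToFrac A L u) z ∈ U A L (n + 1) := by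
  induction hz using AddSubgroup.closure_induction with
  | mem z hz =>
    obtain ⟨w, rfl⟩ := hz
    rw [cons_symbol]
    have e : (Fin.cons (MilK.unitToFrac A L u) fun i => MilK.unitToFrac A L (w i) : Fin (n + 1) → Lˣ) =
        fun i => MilK.unitToFrac A L ((Fin.cons u w : Fin (n + 1) → Aˣ) i) := by
      funext i
      exact Fin.cases (by simp) (fun i => by simp) i
    rw [e]
    exact symbol_mem_U _
  | zero => simp [cons_zero]
  | add x y _ _ hx hy => rw [cons_add]; exact add_mem hx hy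
  | neg x _ hx => rw [cons_neg]; exact neg_mem hx

variable (L) in
/-- `U (n+1) + {ϖ} · U n`. -/
noncomputable def W (n : ℕ) : AddSubgroup (K L (n + 1)) :=
  U A L (n + 1) ⊔ (U A L n).map (consHom L n (Additive.ofMul (pi L hϖ)))

theorem W_eq_top (n : ℕ) : W L hϖ n = ⊤ := by
  have hU : ∀ n, U A L (n + 1) ≤ W L hϖ n := fun n => le_sup_left
  have hP : ∀ n, ∀ w ∈ U A L n, cons (pi L hϖ) w ∈ W L hϖ n := fun n w hw =>
    AddSubgroup.mem_sup_right ⟨w, hw, rfl⟩
  have step : ∀ n, ∀ (a : Lˣ) (z : K L n), z ∈ U A L n → cons a z ∈ W L hϖ n := by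
    intro n a z hz
    obtain ⟨u, hu, -⟩ := exists_decomp hϖ a
    rw [hu, cons_mul, cons_zpow]
    exact add_mem (zsmul_mem (hP n z hz) _) (hU n (cons_unit_mem_U u hz))
  induction n with
  | zero =>
    rw [eq_top_iff, ← closure_range_symbol, AddSubgroup.closure_le]
    rintro _ ⟨x, rfl⟩
    rw [symbol_eq_cons]
    exact step 0 _ _ (by rw [U_zero]; trivial)
  | succ n ih =>
    rw [eq_top_iff, ← closure_range_symbol, AddSubgroup.closure_le]
    rintro _ ⟨x, rfl⟩
    rw [symbol_eq_cons]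
    have hz : symbol (Fin.tail x) ∈ W L hϖ n := by rw [ih]; trivial
    obtain ⟨y, hy, _, ⟨w, hw, rfl⟩, hyw⟩ := AddSubgroup.mem_sup.mp hz
    rw [← hyw, cons_add]
    refine add_mem (step _ _ _ hy) ?_
    show cons (x 0) (cons (pi L hϖ) w) ∈ W L hϖ (n + 1)
    rw [cons_cons_swap]
    obtain ⟨u, hu, -⟩ := exists_decomp hϖ (x 0)
    rw [hu, cons_mul, cons_zpow, cons_add, cons_zsmul, cons_cons_self, ← unitToFrac_neg_one (A := A)]
    exact neg_mem (add_mem (zsmul_mem (hP _ _ (cons_unit_mem_U _ hw)) _) (hP _ _ (cons_unit_mem_U _ hw)))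

theorem exists_decomp_K {n : ℕ} (x : K L (n + 1)) :
    ∃ y ∈ U A L (n + 1), ∃ w ∈ U A L n, x = y + cons (pi L hϖ) w := by
  have hx : x ∈ W L hϖ n := by rw [W_eq_top]; trivial
  obtain ⟨y, hy, _, ⟨w, hw, rfl⟩, hyw⟩ := AddSubgroup.mem_sup.mp hx
  exact ⟨y, hy, w, hw, hyw.symm⟩

theorem D_eq_zero_of_mem_U : ∀ {n : ℕ} {z : K L (n + 1)}, z ∈ U A L (n + 1) → D L hϖ n z = 0 := by
  intro n
  induction n with
  | zero =>
    intro z hz
    induction hz using AddSubgroup.closure_induction with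
    | mem z hz =>
      obtain ⟨u, rfl⟩ := hz
      rw [symbol_eq_cons, D_zero_cons, v_unit, zero_zsmul]
    | zero => simp
    | add x y _ _ hx hy => simp [hx, hy]
    | neg x _ hx => simp [hx]
  | succ n ih =>
    intro z hz
    induction hz using AddSubgroup.closure_induction with
    | mem z hz =>
      obtain ⟨u, rfl⟩ := hz
      rw [symbol_eq_cons, D_succ_cons, v_unit, zero_zsmul, add_zero,
        ih (z := symbol (Fin.tail fun i => MilK.unitToFrac A L (u i))) (symbol_mem_U (Fin.tail u)),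
        cons_zero]
    | zero => simp
    | add x y _ _ hx hy => simp [hx, hy]
    | neg x _ hx => simp [hx]

theorem D_cons_of_mem_U {n : ℕ} (a : Lˣ) {z : K L n} (hz : z ∈ U A L n) :
    D L hϖ n (cons a z) = v hϖ a • S L hϖ n z := by
  cases n with
  | zero => exact D_zero_cons hϖ a z
  | succ n => rw [D_succ_cons, D_eq_zero_of_mem_U hϖ hz, cons_zero, zero_add]

theorem symbol_cons_eq {n : ℕ} (a : Lˣ) (u : Fin n → Aˣ) :
    symbol (Fin.cons a fun i => MilK.unitToFrac A L (u i)) =
      cons a (symbol fun i => MilK.unitToFrac A L (u i)) :=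
  (cons_symbol _ _).symm

theorem v_irreducible {ϖ' : A} (h : Irreducible ϖ') : v hϖ (pi L h) = 1 := by
  obtain ⟨w, hw⟩ := IsDiscreteValuationRing.associated_of_irreducible A hϖ h
  have : pi L h = pi L hϖ * MilK.unitToFrac A L w := by
    ext; simp [pi, coe_unitToFrac, ← hw]
  rw [this, v_mul, v_pi, v_unit, add_zero]

theorem isTameSymbol_D (n : ℕ) : MilK.IsTameSymbol A L n (D L hϖ n) := by
  intro ϖ' h u
  rw [symbol_cons_eq, D_cons_of_mem_U hϖ _ (symbol_mem_U u)]
  rw [show MilK.unitFrac A L ϖ' h.ne_zero = pi L h from rfl, v_irreducible hϖ h, one_zsmul, S_symbol]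
  simp

theorem tameSymbol_eq {n : ℕ} {d : K L (n + 1) →+ K (ResidueField A) n}
    (hd : MilK.IsTameSymbol A L n d) : d = D L hϖ n := by
  have hU : ∀ z ∈ U A L (n + 1), d z = 0 := by
    intro z hz
    induction hz using AddSubgroup.closure_induction with
    | mem z hz =>
      obtain ⟨u, rfl⟩ := hz
      have hϖ' : Irreducible (ϖ * (u 0 : A)) := (irreducible_mul_isUnit (u 0).isUnit).mpr hϖ
      have h1 := hd _ hϖ' (Fin.tail u)
      have h2 := hd _ hϖ (Fin.tail u)
      rw [symbol_cons_eq] at h1 h2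
      rw [show MilK.unitFrac A L (ϖ * (u 0 : A)) hϖ'.ne_zero = pi L hϖ * MilK.unitToFrac A L (u 0) by
        ext; simp [pi, coe_unitToFrac], cons_mul, map_add,
        show pi L hϖ = MilK.unitFrac A L ϖ hϖ.ne_zero from rfl, h2, add_eq_left] at h1
      rw [symbol_eq_cons]
      exact h1
    | zero => simp
    | add x y _ _ hx hy => simp [hx, hy]
    | neg x _ hx => simp [hx]
  ext x
  obtain ⟨y, hy, w, hw, rfl⟩ := exists_decomp_K hϖ x
  rw [map_add, map_add, hU y hy, D_eq_zero_of_mem_U hϖ hy, zero_add, zero_add,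
    D_cons_of_mem_U hϖ _ hw, v_pi, one_zsmul]
  induction hw using AddSubgroup.closure_induction with
  | mem z hz =>
    obtain ⟨u, rfl⟩ := hz
    rw [← symbol_cons_eq, pi, hd _ hϖ u, S_symbol]
    simp
  | zero => simp [cons_zero]
  | add x y _ _ hx hy => simp [cons_add, hx, hy]
  | neg x _ hx => simp [cons_neg, hx]

/-! ### Units congruent to one, and the inverse of the residue maps -/

variable (A L) in
/-- The subgroup generated by symbols with one entry congruent to one. -/
def U₁ (n : ℕ) : AddSubgroup (K L n) :=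
  AddSubgroup.closure {z | ∃ (x : Fin n → Lˣ) (i : Fin n) (u : Aˣ),
    residue A (u : A) = 1 ∧ x i = MilK.unitToFrac A L u ∧ z = symbol x}

theorem symbol_mem_U₁ {n : ℕ} (x : Fin n → Lˣ) (i : Fin n) (u : Aˣ) (hu : residue A (u : A) = 1)
    (hx : x i = MilK.unitToFrac A L u) : symbol x ∈ U₁ A L n :=
  AddSubgroup.subset_closure ⟨x, i, u, hu, hx, rfl⟩

theorem cons_one_unit_mem_U₁ {n : ℕ} (u : Aˣ) (hu : residue A (u : A) = 1) (z : K L n) :
    cons (MilK.unitToFrac A L u) z ∈ U₁ A L (n + 1) :=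
  mem_of_forall_symbol (consHom L n (Additive.ofMul (MilK.unitToFrac A L u))) _
    (fun x => by
      rw [consHom_symbol]
      exact symbol_mem_U₁ _ 0 u hu rfl) z

theorem cons_mem_U₁ {n : ℕ} (a : Lˣ) {z : K L n} (hz : z ∈ U₁ A L n) : cons a z ∈ U₁ A L (n + 1) := by
  induction hz using AddSubgroup.closure_induction with
  | mem z hz =>
    obtain ⟨x, i, u, hu, hx, rfl⟩ := hz
    rw [cons_symbol]
    exact symbol_mem_U₁ _ i.succ u hu (by simpa using hx)
  | zero => simp [cons_zero]
  | add x y _ _ hx hy => rw [cons_add]; exact add_mem hx hy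
  | neg x _ hx => rw [cons_neg]; exact neg_mem hx

theorem U₁_zero : U₁ A L 0 = ⊥ := by
  rw [U₁, AddSubgroup.closure_eq_bot_iff]
  rintro _ ⟨x, i, -⟩
  exact i.elim0

theorem U₁_eq_closure (n : ℕ) : U₁ A L (n + 1) = AddSubgroup.closure
    {z : K L (n + 1) | ∃ (u₀ : Aˣ) (w : Fin n → Lˣ),
      residue A (u₀ : A) = 1 ∧ z = symbol (Fin.cons (MilK.unitToFrac A L u₀) w)} := by
  apply le_antisymm
  · rw [U₁, AddSubgroup.closure_le]
    rintro _ ⟨x, i, u, hu, hx, rfl⟩
    let y := x ∘ Equiv.swap 0 i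
    have hy : symbol y ∈ AddSubgroup.closure {z : K L (n + 1) | ∃ (u₀ : Aˣ) (w : Fin n → Lˣ),
        residue A (u₀ : A) = 1 ∧ z = symbol (Fin.cons (MilK.unitToFrac A L u₀) w)} := by
      refine AddSubgroup.subset_closure ⟨u, Fin.tail y, hu, ?_⟩
      conv_lhs => rw [← Fin.cons_self_tail y]
      simp [y, hx]
    rcases eq_or_ne 0 i with rfl | hne
    · simpa [y] using hy
    · have e := symbol_swap x hne
      rw [show y = x ∘ Equiv.swap 0 i from rfl, e, neg_mem_iff] at hy
      exact hy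
  · rw [AddSubgroup.closure_le]
    rintro _ ⟨u, w, hu, rfl⟩
    exact symbol_mem_U₁ _ 0 u hu (Fin.cons_zero _ _)

include hϖ in
theorem U₁_le_U (n : ℕ) : U₁ A L n ≤ U A L n := by
  cases n with
  | zero => simp [U_zero]
  | succ n =>
    rw [U₁_eq_closure, AddSubgroup.closure_le]
    rintro _ ⟨u, w, hu, rfl⟩
    rw [← cons_symbol]
    cases n with
    | zero => exact cons_unit_mem_U u (by rw [U_zero]; trivial)
    | succ n =>
      obtain ⟨y, hy, w', hw', e⟩ := exists_decomp_K hϖ (symbol w)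
      rw [e, cons_add]
      refine add_mem (cons_unit_mem_U u hy) ?_
      have key : ∀ u : Aˣ, ∀ e : Aˣ, 1 - (u : A) = ϖ * e →
          cons (MilK.unitToFrac A L u) (cons (pi L hϖ) w') ∈ U A L (n + 2) := by
        intro u e he
        have h0 := cons_cons_of_add (MilK.unitToFrac A L u) (pi L hϖ * MilK.unitToFrac A L e)
          (by simp only [coe_unitToFrac, Units.val_mul, pi, coe_unitFrac]
              rw [← map_mul, ← map_add, ← he, add_sub_cancel, map_one]) w'
        rw [cons_mul, cons_add, add_eq_zero_iff_eq_neg] at h0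
        rw [h0]
        exact neg_mem (cons_unit_mem_U u (cons_unit_mem_U e hw'))
      obtain ⟨t, ht⟩ : ϖ ∣ 1 - (u : A) := by
        rw [← Ideal.mem_span_singleton, ← hϖ.maximalIdeal_eq, ← residue_eq_zero_iff, map_sub, map_one, hu,
          sub_self]
      by_cases htu : IsUnit t
      · exact key u htu.unit ht
      · have h1 : IsUnit (1 + ϖ) := by
          simpa using IsLocalRing.isUnit_one_sub_self_of_mem_nonunits (-ϖ)
            ((maximalIdeal A).neg_mem hϖ.not_isUnit)
        have h2 : IsUnit (t + 1) := by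
          simpa [add_comm] using IsLocalRing.isUnit_one_sub_self_of_mem_nonunits (-t)
            ((maximalIdeal A).neg_mem htu)
        have e1 : (1 : A) - (1 + ϖ) = ϖ * ((-1 : Aˣ) : A) := by simp
        have e2 : (1 : A) - ((u * h1.unit⁻¹ : Aˣ) : A) = ϖ * ((h2.unit * h1.unit⁻¹ : Aˣ) : A) := by
          apply h1.mul_left_injective
          simp only [Units.val_mul, sub_mul, mul_assoc, IsUnit.val_inv_mul, mul_one, one_mul, IsUnit.unit_spec]
          linear_combination ht
        have := add_mem (key h1.unit (-1) (by simpa using e1)) (key _ _ e2)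
        rwa [← cons_mul, ← map_mul, mul_inv_cancel_comm_assoc] at this

/-- A chosen lift of a unit of the residue field. -/
noncomputable def unitLift (a : (ResidueField A)ˣ) : Aˣ :=
  (IsLocalRing.surjective_units_map_of_local_ringHom (residue A) residue_surjective inferInstance a).choose

theorem unitResidue_unitLift (a : (ResidueField A)ˣ) : MilK.unitResidue A (unitLift a) = a :=
  (IsLocalRing.surjective_units_map_of_local_ringHom (residue A) residue_surjective inferInstance a).choose_spec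

variable (A L) in
theorem symbol_update_sub_mem_U₁ {n : ℕ} (x : Fin n → Lˣ) (i : Fin n) (u w : Aˣ)
    (h : MilK.unitResidue A u = MilK.unitResidue A w) :
    symbol (update x i (MilK.unitToFrac A L u)) - symbol (update x i (MilK.unitToFrac A L w)) ∈ U₁ A L n := by
  have e : u = w * (w⁻¹ * u) := by simp
  rw [e, map_mul, symbol_update_mul, add_sub_cancel_left]
  refine symbol_mem_U₁ _ i (w⁻¹ * u) ?_ (update_self _ _ _)
  rw [← coe_unitResidue, map_mul, map_inv, h, inv_mul_cancel, Units.val_one]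

theorem mk_symbol_update_congr {n : ℕ} (x : Fin n → Lˣ) (i : Fin n) (u w : Aˣ)
    (h : MilK.unitResidue A u = MilK.unitResidue A w) :
    QuotientAddGroup.mk' (U₁ A L n) (symbol (update x i (MilK.unitToFrac A L u))) =
      QuotientAddGroup.mk' (U₁ A L n) (symbol (update x i (MilK.unitToFrac A L w))) :=
  (QuotientAddGroup.eq_iff_sub_mem).mpr (symbol_update_sub_mem_U₁ A L x i u w h)

theorem mk_symbol_congr {n : ℕ} (u w : Fin n → Aˣ)
    (h : ∀ i, MilK.unitResidue A (u i) = MilK.unitResidue A (w i)) :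
    QuotientAddGroup.mk' (U₁ A L n) (symbol fun i => MilK.unitToFrac A L (u i)) =
      QuotientAddGroup.mk' (U₁ A L n) (symbol fun i => MilK.unitToFrac A L (w i)) := by
  suffices ∀ s : Finset (Fin n),
      QuotientAddGroup.mk' (U₁ A L n) (symbol fun i => MilK.unitToFrac A L (if i ∈ s then w i else u i)) =
        QuotientAddGroup.mk' (U₁ A L n) (symbol fun i => MilK.unitToFrac A L (u i)) by
    simpa using (this Finset.univ).symm
  intro s
  induction s using Finset.induction_on with
  | empty => simp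
  | insert a s ha ih =>
    rw [← ih]
    let x : Fin n → Lˣ := fun i => MilK.unitToFrac A L (if i ∈ s then w i else u i)
    have e1 : (fun i => MilK.unitToFrac A L (if i ∈ insert a s then w i else u i)) =
        update x a (MilK.unitToFrac A L (w a)) := by
      funext i; rcases eq_or_ne i a with rfl | hi <;> simp [x, *]
    have e2 : x = update x a (MilK.unitToFrac A L (u a)) := by
      funext i; rcases eq_or_ne i a with rfl | hi <;> simp [x, *]
    show QuotientAddGroup.mk' _ (symbol _) = QuotientAddGroup.mk' _ (symbol x)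
    rw [e1]
    conv_rhs => rw [e2]
    exact mk_symbol_update_congr x a _ _ (h a).symm

variable (L) in
/-- `{ū₁,…} ↦ {u₁,…}` modulo `U₁`. -/
noncomputable def psi (n : ℕ) : K (ResidueField A) n →+ K L n ⧸ U₁ A L n :=
  MilK.lift
    (MultilinearMap.mk'
      (fun x => QuotientAddGroup.mk' (U₁ A L n)
        (symbol fun i => MilK.unitToFrac A L (unitLift (A := A) (x i).toMul)))
      (fun x i a b => by
        have e : ∀ t, (fun j => MilK.unitToFrac A L (unitLift (A := A) ((update x i t) j).toMul)) =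
            update (fun j => MilK.unitToFrac A L (unitLift (A := A) (x j).toMul)) i
              (MilK.unitToFrac A L (unitLift (A := A) t.toMul)) := fun t =>
          comp_update (fun y : Additive (ResidueField A)ˣ => MilK.unitToFrac A L (unitLift (A := A) y.toMul)) x i t
        simp only [e]
        rw [mk_symbol_update_congr _ i _ (unitLift a.toMul * unitLift b.toMul)
          (by rw [map_mul, unitResidue_unitLift, unitResidue_unitLift, unitResidue_unitLift, toMul_add]),
          map_mul, symbol_update_mul, map_add])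
      (fun x i m a => by
        have e : ∀ t, (fun j => MilK.unitToFrac A L (unitLift (A := A) ((update x i t) j).toMul)) =
            update (fun j => MilK.unitToFrac A L (unitLift (A := A) (x j).toMul)) i
              (MilK.unitToFrac A L (unitLift (A := A) t.toMul)) := fun t =>
          comp_update (fun y : Additive (ResidueField A)ˣ => MilK.unitToFrac A L (unitLift (A := A) y.toMul)) x i t
        simp only [e]
        rw [mk_symbol_update_congr _ i _ (unitLift a.toMul ^ m)
          (by rw [map_zpow, unitResidue_unitLift, unitResidue_unitLift, toMul_zsmul]), map_zpow]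
        rw [← symbolML_apply, ofMul_comp_update, ofMul_zpow, MultilinearMap.map_update_smul, map_zsmul,
          ← ofMul_comp_update, symbolML_apply]))
    fun x ⟨i, j, hij, h⟩ => by
      show QuotientAddGroup.mk' (U₁ A L n) (symbol fun k => MilK.unitToFrac A L (unitLift (A := A) (x k))) = 0
      have hres : residue A ((unitLift (x i) : Aˣ) : A) = (x i : ResidueField A) := by
        rw [← coe_unitResidue, unitResidue_unitLift]
      have hu : IsUnit (1 - ((unitLift (x i) : Aˣ) : A)) := by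
        rw [← IsLocalRing.notMem_maximalIdeal, ← residue_eq_zero_iff, map_sub, map_one, hres,
          ← h, add_sub_cancel_left]
        exact (x j).ne_zero
      rw [mk_symbol_congr (fun k => unitLift (x k)) (update (fun k => unitLift (x k)) j hu.unit) (fun k => ?_)]
      · rw [symbol_eq_zero_of_add _ hij.ne, map_zero]
        simp [update_of_ne hij.ne, coe_unitToFrac]
      · rcases eq_or_ne k j with rfl | hk
        · rw [update_self, unitResidue_unitLift]
          ext
          rw [coe_unitResidue, IsUnit.unit_spec, map_sub, map_one, hres, ← h, add_sub_cancel_left]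
        · rw [update_of_ne hk]

theorem psi_symbol {n : ℕ} (x : Fin n → (ResidueField A)ˣ) :
    psi L n (symbol x) =
      QuotientAddGroup.mk' (U₁ A L n) (symbol fun i => MilK.unitToFrac A L (unitLift (A := A) (x i))) :=
  MilK.lift_symbol _ _ _

theorem psi_S_of_mem_U {n : ℕ} {z : K L n} (hz : z ∈ U A L n) :
    psi L n (S L hϖ n z) = QuotientAddGroup.mk' (U₁ A L n) z := by
  induction hz using AddSubgroup.closure_induction with
  | mem z hz =>
    obtain ⟨u, rfl⟩ := hz
    rw [S_symbol, psi_symbol]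
    exact mk_symbol_congr _ _ fun i => by rw [unitResidue_unitLift, r_unit]
  | zero => simp
  | add x y _ _ hx hy => simp only [map_add, hx, hy]
  | neg x _ hx => simp only [map_neg, hx]

theorem mem_U₁_of_S_eq_zero {n : ℕ} {z : K L n} (hz : z ∈ U A L n) (h : S L hϖ n z = 0) :
    z ∈ U₁ A L n := by
  have e := psi_S_of_mem_U hϖ hz
  rw [h, map_zero] at e
  exact (QuotientAddGroup.eq_zero_iff z).mp e.symm

theorem exists_mem_U_S_eq {n : ℕ} (p : K (ResidueField A) n) : ∃ z ∈ U A L n, S L hϖ n z = p := by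
  induction p using induction_on with
  | h0 => exact ⟨0, zero_mem _, map_zero _⟩
  | hadd a b ha hb =>
    obtain ⟨x, hx, rfl⟩ := ha
    obtain ⟨y, hy, rfl⟩ := hb
    exact ⟨x + y, add_mem hx hy, map_add _ _ _⟩
  | hneg a ha =>
    obtain ⟨x, hx, rfl⟩ := ha
    exact ⟨-x, neg_mem hx, map_neg _ _⟩
  | hsym x =>
    refine ⟨_, symbol_mem_U fun i => unitLift (x i), ?_⟩
    rw [S_symbol]
    exact congrArg symbol (funext fun i => by rw [r_unit, unitResidue_unitLift])

theorem S_cons_pi {n : ℕ} (w : K L n) : S L hϖ (n + 1) (cons (pi L hϖ) w) = 0 := by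
  rw [S_cons, r_pi, cons_one]

theorem exists_S_D_eq {n : ℕ} (p : K (ResidueField A) (n + 1)) (q : K (ResidueField A) n) :
    ∃ x : K L (n + 1), S L hϖ (n + 1) x = p ∧ D L hϖ n x = q := by
  obtain ⟨y, hy, rfl⟩ := exists_mem_U_S_eq (L := L) hϖ p
  obtain ⟨w, hw, rfl⟩ := exists_mem_U_S_eq (L := L) hϖ q
  refine ⟨y + cons (pi L hϖ) w, ?_, ?_⟩
  · rw [map_add, S_cons_pi, add_zero]
  · rw [map_add, D_eq_zero_of_mem_U hϖ hy, D_cons_of_mem_U hϖ _ hw, v_pi, one_zsmul, zero_add]

theorem mem_U_of_D_eq_zero {n : ℕ} {x : K L (n + 1)} (h : D L hϖ n x = 0) : x ∈ U A L (n + 1) := by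
  obtain ⟨y, hy, w, hw, rfl⟩ := exists_decomp_K hϖ x
  rw [map_add, D_eq_zero_of_mem_U hϖ hy, D_cons_of_mem_U hϖ _ hw, v_pi, one_zsmul, zero_add] at h
  exact add_mem hy (U₁_le_U hϖ _ (cons_mem_U₁ _ (mem_U₁_of_S_eq_zero hϖ hw h)))

theorem D_ker {n : ℕ} : (D L hϖ n).ker = U A L (n + 1) :=
  le_antisymm (fun _ h => mem_U_of_D_eq_zero hϖ h) fun _ h => D_eq_zero_of_mem_U hϖ h

theorem S_D_eq_zero_iff {n : ℕ} (x : K L (n + 1)) :
    (S L hϖ (n + 1) x = 0 ∧ D L hϖ n x = 0) ↔ x ∈ U₁ A L (n + 1) := by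
  constructor
  · rintro ⟨hs, hd⟩
    exact mem_U₁_of_S_eq_zero hϖ (mem_U_of_D_eq_zero hϖ hd) hs
  · intro hx
    refine ⟨?_, D_eq_zero_of_mem_U hϖ (U₁_le_U hϖ _ hx)⟩
    induction hx using AddSubgroup.closure_induction with
    | mem z hz =>
      obtain ⟨x, i, u, hu, hxi, rfl⟩ := hz
      rw [S_symbol]
      refine symbol_eq_zero_of_eq_one _ i ?_
      rw [hxi, r_unit]
      ext
      rw [coe_unitResidue, hu, Units.val_one]
    | zero => simp
    | add x y _ _ hx hy => simp [hx, hy]
    | neg x _ hx => simp [hx]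

theorem D_cons_neg_pi {n : ℕ} (z : K L n) : D L hϖ n (cons (-pi L hϖ) z) = S L hϖ n z := by
  cases n with
  | zero => rw [D_zero_cons, v_neg, v_pi, one_zsmul]
  | succ n =>
    rw [D_succ_cons, v_neg, v_pi, one_zsmul]
    simp [c, cons_one]

theorem D_cons_unit {n : ℕ} (u : Aˣ) (z : K L (n + 1)) :
    D L hϖ (n + 1) (cons (MilK.unitToFrac A L u) z) = -cons (MilK.unitResidue A u) (D L hϖ n z) := by
  rw [D_succ_cons, v_unit, zero_zsmul, add_zero]
  simp [c, cons_inv]

end Groth.Agent.MilnorK
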